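import Mathlib.RingTheory.AlgebraicIndependent.AlgebraicClosure
import Mathlib.RingTheory.AlgebraicIndependent.Adjoin
import Mathlib.FieldTheory.IntermediateField.Adjoin.Basic
import Mathlib.FieldTheory.Fixed
import Mathlib.FieldTheory.Galois.Basic
import Mathlib.LinearAlgebra.Dual.Lemmas
import Mathlib.RingTheory.Polynomial.Basic
import Mathlib.RingTheory.OrzechProperty
import Mathlib.Tactic.LinearCombination

/-! The no-name lemma for finite groups acting semilinearly on a rational function field. -/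

set_option autoImplicit false

open MvPolynomial

namespace Groth.Agent.L13.InvFld

variable {k L : Type*} [Field k] [Field L] [Algebra k L] (Γ : Subgroup (L ≃ₐ[k] L))
  (E : IntermediateField k L)

theorem injective_of_surjective_endo {R : Type*} [CommRing R] [IsNoetherianRing R] (f : R →+* R)
    (hf : Function.Surjective f) : Function.Injective f := by
  have hmono : Monotone fun n => RingHom.ker (f ^ n) := monotone_nat_of_le_succ fun n x hx => by
    simp only [RingHom.mem_ker, RingHom.coe_pow] at hx ⊢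
    rw [Function.iterate_succ_apply', hx, map_zero]
  obtain ⟨N, hN⟩ := monotone_stabilizes_iff_noetherian.2 ‹_› ⟨_, hmono⟩
  rw [injective_iff_map_eq_zero]
  intro x hx
  obtain ⟨y, rfl⟩ := hf.iterate N x
  have h1 : y ∈ RingHom.ker (f ^ (N + 1)) := by
    simpa [RingHom.mem_ker, RingHom.coe_pow, Function.iterate_succ_apply'] using hx
  have h2 : y ∈ RingHom.ker (f ^ N) := (congrArg (y ∈ ·) (hN (N + 1) N.le_succ)).mpr h1
  simpa [RingHom.mem_ker, RingHom.coe_pow] using h2

/-- The restriction of a stable automorphism to `E`. -/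
def res (hE : ∀ σ ∈ Γ, ∀ z ∈ E, σ z ∈ E) (σ : Γ) : E →+* E :=
  (((σ : L ≃ₐ[k] L) : L →+* L).comp E.val.toRingHom).codRestrict E fun z => hE σ σ.2 z z.2

theorem exists_basis_fixed [Finite Γ] (hE : ∀ σ ∈ Γ, ∀ z ∈ E, σ z ∈ E)
    (hfaith : ∀ σ ∈ Γ, (∀ z ∈ E, σ z = z) → σ = 1) {m : ℕ} (y : Fin m → L)
    (hy : LinearIndependent E y)
    (hyΓ : ∀ σ ∈ Γ, ∀ i, σ (y i) ∈ Submodule.span E (Set.range y)) :
    ∃ t : Fin m → L, (∀ i, ∀ σ ∈ Γ, σ (t i) = t i) ∧
      Submodule.span E (Set.range t) = Submodule.span E (Set.range y) := by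
  classical
  have := Fintype.ofFinite Γ
  set W := Submodule.span E (Set.range y) with hW
  let T : Set L := Set.range fun p : E × Fin m =>
    ∑ σ : Γ, (σ : L ≃ₐ[k] L) ((p.1 : L) * y p.2)
  have hTW : Submodule.span E T ≤ W := by
    rw [Submodule.span_le]
    rintro _ ⟨⟨c, i⟩, rfl⟩
    refine Submodule.sum_mem _ fun σ _ => ?_
    rw [map_mul]
    exact W.smul_mem (⟨_, hE σ σ.2 c c.2⟩ : E) (hyΓ σ σ.2 i)
  have hWT : W ≤ Submodule.span E T := by
    intro w hw
    by_contra hn
    obtain ⟨φ, hφw, hφ⟩ := Submodule.exists_dual_map_eq_bot_of_notMem hn inferInstance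
    have hT0 : ∀ z ∈ T, φ z = 0 := fun z hz => by
      have : φ z ∈ (Submodule.span E T).map φ := Submodule.mem_map_of_mem (Submodule.subset_span hz)
      rwa [hφ, Submodule.mem_bot] at this
    let χ : Γ → E →* L := fun σ =>
      (((σ : L ≃ₐ[k] L) : L →+* L).comp E.val.toRingHom).toMonoidHom
    have hχ : Function.Injective χ := by
      intro σ τ h
      have h2 : ((τ⁻¹ * σ : Γ) : L ≃ₐ[k] L) = 1 := hfaith _ (τ⁻¹ * σ : Γ).2 fun z hz => by
        have h3 : (σ : L ≃ₐ[k] L) z = (τ : L ≃ₐ[k] L) z := DFunLike.congr_fun h (⟨z, hz⟩ : E)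
        rw [Subgroup.coe_mul, Subgroup.coe_inv, AlgEquiv.mul_apply, h3]
        exact (τ : L ≃ₐ[k] L).symm_apply_apply z
      exact (inv_mul_eq_one.1 (Subtype.ext h2 : τ⁻¹ * σ = 1)).symm
    have hli : LinearIndependent L (fun σ => (χ σ : E → L)) :=
      (linearIndependent_monoidHom E L).comp χ hχ
    have hy0 : ∀ j, φ (y j) = 0 := by
      intro j
      have hsum : ∑ σ : Γ, ((φ ((σ : L ≃ₐ[k] L) (y j)) : E) : L) • (χ σ : E → L) = 0 := by
        funext c
        have h := hT0 _ ⟨(c, j), rfl⟩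
        rw [map_sum] at h
        have hs : ∀ σ : Γ, φ ((σ : L ≃ₐ[k] L) ((c : L) * y j))
            = (⟨_, hE σ σ.2 c c.2⟩ : E) * φ ((σ : L ≃ₐ[k] L) (y j)) := fun σ => by
          rw [map_mul, ← smul_eq_mul (a := (⟨_, hE σ σ.2 c c.2⟩ : E)), ← map_smul]
          rfl
        rw [Finset.sum_congr rfl fun σ _ => hs σ] at h
        have h' := congrArg (algebraMap E L) h
        rw [map_sum, map_zero] at h'
        rw [Finset.sum_apply, Pi.zero_apply]
        refine Eq.trans (Finset.sum_congr rfl fun σ _ => ?_) h'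
        rw [map_mul, Pi.smul_apply, smul_eq_mul, mul_comm]
        rfl
      have := Fintype.linearIndependent_iff.1 hli _ hsum 1
      exact (ZeroMemClass.coe_eq_zero).1 (by simpa using this)
    refine hφw ?_
    have : W ≤ LinearMap.ker φ := by
      rw [hW, Submodule.span_le]
      rintro _ ⟨j, rfl⟩
      exact hy0 j
    exact this hw
  have hspan : Submodule.span E T = W := le_antisymm hTW hWT
  obtain ⟨b, hbT, hbspan, hbli⟩ := exists_linearIndependent E T
  rw [hspan] at hbspan
  have hb' : Submodule.span E (Set.range ((↑) : b → L)) = W := by rw [Subtype.range_coe, hbspan]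
  let Bb : Module.Basis b E W := (Module.Basis.span hbli).map (LinearEquiv.ofEq _ _ hb')
  let By : Module.Basis (Fin m) E W := Module.Basis.span hy
  let e : b ≃ Fin m := Bb.indexEquiv By
  refine ⟨fun i => (e.symm i : L), fun i σ hσ => ?_, ?_⟩
  · obtain ⟨p, hp⟩ := hbT (e.symm i).2
    change σ (e.symm i : L) = (e.symm i : L)
    rw [← hp, map_sum]
    exact Fintype.sum_equiv (Equiv.mulLeft (⟨σ, hσ⟩ : Γ))
      (fun τ : Γ => σ ((τ : L ≃ₐ[k] L) ((p.1 : L) * y p.2)))
      (fun τ : Γ => (τ : L ≃ₐ[k] L) ((p.1 : L) * y p.2)) fun τ => rfl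
  · have : (fun i => (e.symm i : L)) = ((↑) : b → L) ∘ e.symm := rfl
    rw [this, e.symm.surjective.range_comp, hb']

theorem algebraicIndependent_of_span_eq {m : ℕ} (y t : Fin m → L) (hy : AlgebraicIndependent E y)
    (hspan : Submodule.span E (Set.range t) = Submodule.span E (Set.range y)) :
    AlgebraicIndependent E t := by
  classical
  have h1 : ∀ l, ∃ c : Fin m → E, ∑ j, c j • y j = t l := fun l => by
    rw [← Submodule.mem_span_range_iff_exists_fun, ← hspan]
    exact Submodule.subset_span ⟨l, rfl⟩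
  have h2 : ∀ j, ∃ c : Fin m → E, ∑ l, c l • t l = y j := fun j => by
    rw [← Submodule.mem_span_range_iff_exists_fun, hspan]
    exact Submodule.subset_span ⟨j, rfl⟩
  choose B hB using h1
  choose A hA using h2
  let θ : MvPolynomial (Fin m) E →ₐ[E] MvPolynomial (Fin m) E := aeval fun l => ∑ j, B l j • X j
  have hθ : (aeval t : MvPolynomial (Fin m) E →ₐ[E] L) = (aeval y).comp θ := by
    ext l
    simp [θ, hB]
  have hθsurj : Function.Surjective θ := by
    rw [← AlgHom.range_eq_top, eq_top_iff, ← MvPolynomial.adjoin_range_X, Algebra.adjoin_le_iff]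
    rintro _ ⟨j, rfl⟩
    refine ⟨∑ l, A j l • X l, hy ?_⟩
    change ((aeval y).comp θ) (∑ l, A j l • X l) = aeval y (X j)
    rw [← hθ]
    simp [hA]
  have hθinj : Function.Injective θ := injective_of_surjective_endo θ.toRingHom hθsurj
  rw [algebraicIndependent_iff_injective_aeval, hθ, AlgHom.coe_comp]
  exact Function.Injective.comp hy hθinj

theorem map_res_aeval (hE : ∀ σ ∈ Γ, ∀ z ∈ E, σ z ∈ E) {m : ℕ} (t : Fin m → L)
    (hfix : ∀ i, ∀ σ ∈ Γ, σ (t i) = t i) (σ : Γ) (p : MvPolynomial (Fin m) E) :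
    (σ : L ≃ₐ[k] L) (aeval t p) = aeval t (MvPolynomial.map (res Γ E hE σ) p) := by
  induction p using MvPolynomial.induction_on with
  | C a => rw [map_C, aeval_C, aeval_C]; rfl
  | add p q hp hq => simp only [map_add, hp, hq]
  | mul_X p i hp => simp only [map_mul, map_X, aeval_X, hp, hfix i σ σ.2]

theorem mem_adjoin_of_fixed [Finite Γ] (hE : ∀ σ ∈ Γ, ∀ z ∈ E, σ z ∈ E) {m : ℕ} (t : Fin m → L)
    (hfix : ∀ i, ∀ σ ∈ Γ, σ (t i) = t i) (ht : AlgebraicIndependent E t)
    (hgen : IntermediateField.adjoin E (Set.range t) = ⊤)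
    {z : L} (hz : z ∈ IntermediateField.fixedField Γ) :
    z ∈ IntermediateField.adjoin (↥(E ⊓ IntermediateField.fixedField Γ)) (Set.range t) := by
  classical
  have := Fintype.ofFinite Γ
  have hzfix : ∀ σ : Γ, (σ : L ≃ₐ[k] L) z = z := fun σ => hz σ
  set F := E ⊓ IntermediateField.fixedField Γ with hF
  -- fixed polynomial expressions have coefficients in `F`
  have key : ∀ p : MvPolynomial (Fin m) E, (∀ σ : Γ, (σ : L ≃ₐ[k] L) (aeval t p) = aeval t p) →
      ∃ p' : MvPolynomial (Fin m) F, aeval t p' = aeval t p := by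
    intro p hp
    have hc : ∀ α, ((p.coeff α : E) : L) ∈ F := fun α => by
      refine ⟨(p.coeff α).2, fun σ => ?_⟩
      have h := hp σ
      rw [map_res_aeval Γ E hE t hfix σ p] at h
      have h' := congrArg (coeff α) (ht h)
      rw [coeff_map] at h'
      exact congrArg Subtype.val h'
    refine ⟨∑ α ∈ p.support, monomial α (⟨_, hc α⟩ : F), ?_⟩
    conv_rhs => rw [p.as_sum]
    simp only [map_sum, aeval_monomial]
    rfl
  obtain ⟨r, s, hrs⟩ := (IntermediateField.mem_adjoin_range_iff E t z).1 (hgen ▸ trivial)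
  by_cases hs : aeval t s = 0
  · rw [hs, div_zero] at hrs
    rw [hrs]
    exact zero_mem _
  let σs : Γ → MvPolynomial (Fin m) E := fun σ => MvPolynomial.map (res Γ E hE σ) s
  let q := ∏ σ : Γ, σs σ
  have hq : aeval t q = ∏ σ : Γ, (σ : L ≃ₐ[k] L) (aeval t s) := by
    rw [map_prod]
    exact Finset.prod_congr rfl fun σ _ => (map_res_aeval Γ E hE t hfix σ s).symm
  have hqfix : ∀ τ : Γ, (τ : L ≃ₐ[k] L) (aeval t q) = aeval t q := fun τ => by
    rw [hq, map_prod]
    exact Fintype.prod_equiv (Equiv.mulLeft τ)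
      (fun σ : Γ => (τ : L ≃ₐ[k] L) ((σ : L ≃ₐ[k] L) (aeval t s)))
      (fun σ : Γ => (σ : L ≃ₐ[k] L) (aeval t s)) fun σ => rfl
  have hq0 : aeval t q ≠ 0 := by
    rw [hq, Finset.prod_ne_zero_iff]
    exact fun σ _ => fun h => hs ((σ : L ≃ₐ[k] L).injective (h.trans (map_zero _).symm))
  let n := r * ∏ σ ∈ Finset.univ.erase (1 : Γ), σs σ
  have hn : aeval t n = z * aeval t q := by
    rw [hq, ← Finset.mul_prod_erase Finset.univ _ (Finset.mem_univ (1 : Γ)), map_mul, map_prod,
      hrs, Subgroup.coe_one, AlgEquiv.one_apply, ← mul_assoc, div_mul_cancel₀ _ hs]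
    exact congrArg _ (Finset.prod_congr rfl fun σ _ => (map_res_aeval Γ E hE t hfix σ s).symm)
  obtain ⟨q', hq'⟩ := key q hqfix
  obtain ⟨n', hn'⟩ := key n fun σ => by rw [hn, map_mul, hzfix σ, hqfix σ]
  refine (IntermediateField.mem_adjoin_range_iff _ t z).2 ⟨n', q', ?_⟩
  rw [hn', hq', hn, mul_div_cancel_right₀ _ hq0]

/-- The no-name lemma. -/
theorem exists_fixedField_eq_adjoin [Finite Γ] (hE : ∀ σ ∈ Γ, ∀ z ∈ E, σ z ∈ E)
    (hfaith : ∀ σ ∈ Γ, (∀ z ∈ E, σ z = z) → σ = 1) {m : ℕ} (y : Fin m → L)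
    (hy : AlgebraicIndependent E y) (hgen : IntermediateField.adjoin E (Set.range y) = ⊤)
    (hyΓ : ∀ σ ∈ Γ, ∀ i, σ (y i) ∈ Submodule.span E (Set.range y)) :
    ∃ t : Fin m → L, AlgebraicIndependent (↥(E ⊓ IntermediateField.fixedField Γ)) t ∧
      IntermediateField.restrictScalars k
        (IntermediateField.adjoin (↥(E ⊓ IntermediateField.fixedField Γ)) (Set.range t)) =
          IntermediateField.fixedField Γ := by
  obtain ⟨t, hfix, hspan⟩ := exists_basis_fixed Γ E hE hfaith y hy.linearIndependent hyΓ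
  have ht : AlgebraicIndependent E t := algebraicIndependent_of_span_eq E y t hy hspan
  have hgent : IntermediateField.adjoin E (Set.range t) = ⊤ := by
    rw [eq_top_iff, ← hgen, IntermediateField.adjoin_le_iff]
    intro x hx
    have hle : Submodule.span E (Set.range t) ≤
        Subalgebra.toSubmodule (IntermediateField.adjoin E (Set.range t)).toSubalgebra :=
      Submodule.span_le.2 (IntermediateField.subset_adjoin E _)
    exact hle (hspan ▸ Submodule.subset_span hx)
  refine ⟨t, ?_, ?_⟩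
  · let ι : ↥(E ⊓ IntermediateField.fixedField Γ) →+* E :=
      (IntermediateField.inclusion inf_le_left).toRingHom
    intro p q hpq
    refine MvPolynomial.map_injective ι (RingHom.injective _) (ht ?_)
    have h : ∀ r, aeval t (MvPolynomial.map ι r) = aeval t r := fun r => by
      rw [aeval_def, eval₂_map, aeval_def]
      rfl
    rw [h, h]
    exact hpq
  · apply le_antisymm
    · intro x hx
      rw [IntermediateField.mem_restrictScalars] at hx
      induction hx using IntermediateField.adjoin_induction with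
      | mem x hx =>
        obtain ⟨i, rfl⟩ := hx
        exact fun σ => hfix i σ σ.2
      | algebraMap x => exact x.2.2
      | add x y _ _ hx hy => exact add_mem hx hy
      | inv x _ hx => exact inv_mem hx
      | mul x y _ _ hx hy => exact mul_mem hx hy
    · exact fun z hz => mem_adjoin_of_fixed Γ E hE t hfix ht hgent hz

end Groth.Agent.L13.InvFld
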