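import Groth.Agent.L13.InvFld.Core
import Groth.Prelude.Def_W4c2brnrinvarInvFld

/-! The coordinate subfields of a rational function field. -/

set_option autoImplicit false

open MvPolynomial

namespace Groth.Agent.L13.InvFld

variable (σ : Type*) (k : Type*) [Field k]

theorem algebraicIndependent_X : AlgebraicIndependent k (fun i : σ => (InvFld.X i : InvFld.Fld σ k)) :=
  (MvPolynomial.algebraicIndependent_X σ k).map'
    (f := IsScalarTower.toAlgHom k (MvPolynomial σ k) (InvFld.Fld σ k))
    (IsFractionRing.injective (MvPolynomial σ k) (InvFld.Fld σ k))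

theorem adjoin_X_eq_top :
    IntermediateField.adjoin k (Set.range fun i : σ => (InvFld.X i : InvFld.Fld σ k)) = ⊤ := by
  rw [eq_top_iff]
  intro z _
  obtain ⟨a, b, -, rfl⟩ := IsFractionRing.div_surjective (MvPolynomial σ k) z
  rw [IntermediateField.mem_adjoin_range_iff]
  refine ⟨a, b, ?_⟩
  have h : ∀ p : MvPolynomial σ k,
      aeval (fun i : σ => (InvFld.X i : InvFld.Fld σ k)) p = algebraMap _ (InvFld.Fld σ k) p := by
    intro p
    induction p using MvPolynomial.induction_on with
    | C c => rw [aeval_C, IsScalarTower.algebraMap_apply k (MvPolynomial σ k) (InvFld.Fld σ k)]; rfl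
    | add p q hp hq => simp only [map_add, hp, hq]
    | mul_X p i hp => simp only [map_mul, aeval_X, hp]
  rw [h, h]

variable (α β : Type*)

/-- The subfield generated by the left variables. -/
noncomputable abbrev leftField : IntermediateField k (InvFld.Fld (α ⊕ β) k) :=
  IntermediateField.adjoin k (Set.range fun j : α => (InvFld.X (Sum.inl j) : InvFld.Fld (α ⊕ β) k))

theorem algebraicIndependent_right :
    AlgebraicIndependent (leftField k α β)
      (fun j : β => (InvFld.X (Sum.inr j) : InvFld.Fld (α ⊕ β) k)) := by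
  rw [IntermediateField.algebraicIndependent_adjoin_iff]
  refine (AlgebraicIndependent.sumElim_iff.1 ?_).2
  have : Sum.elim (fun j : β => (InvFld.X (Sum.inr j) : InvFld.Fld (α ⊕ β) k))
      (fun j : α => (InvFld.X (Sum.inl j) : InvFld.Fld (α ⊕ β) k))
      = (fun i : α ⊕ β => (InvFld.X i : InvFld.Fld (α ⊕ β) k)) ∘ Sum.swap := by
    funext i; cases i <;> rfl
  rw [this]
  exact (algebraicIndependent_X _ k).comp _ (Function.LeftInverse.injective Sum.swap_leftInverse)

theorem adjoin_right_eq_top :
    IntermediateField.adjoin (leftField k α β)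
      (Set.range fun j : β => (InvFld.X (Sum.inr j) : InvFld.Fld (α ⊕ β) k)) = ⊤ := by
  rw [← IntermediateField.restrictScalars_eq_top_iff (K := k), eq_top_iff, ← adjoin_X_eq_top,
    IntermediateField.adjoin_le_iff]
  rintro _ ⟨i | i, rfl⟩
  · exact IntermediateField.algebraMap_mem _
      (⟨_, IntermediateField.subset_adjoin k _ ⟨i, rfl⟩⟩ : leftField k α β)
  · exact IntermediateField.subset_adjoin (leftField k α β) _ ⟨i, rfl⟩

theorem span_le_span (f : β → InvFld.Fld (α ⊕ β) k) {z : InvFld.Fld (α ⊕ β) k}
    (hz : z ∈ Submodule.span k (Set.range f)) :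
    z ∈ Submodule.span (leftField k α β) (Set.range f) :=
  Submodule.span_le_restrictScalars k (leftField k α β) _ hz

end Groth.Agent.L13.InvFld
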