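import Groth.Agent.L13.InvFld.Stable
import Mathlib.RingTheory.MvPolynomial.Symmetric.FundamentalTheorem

/-! The permutation representation: symmetric rational functions. -/

set_option autoImplicit false
universe u

open MvPolynomial

namespace Groth.Agent.L13.InvFld

variable (k : Type u) [Field k] (n : ℕ)

/-- Permutations acting on the rational function field. -/
noncomputable def permHom :
    Equiv.Perm (Fin n) →* (InvFld.Fld (Fin n) k ≃ₐ[k] InvFld.Fld (Fin n) k) :=
  (IsFractionRing.fieldEquivOfAlgEquivHom k (InvFld.Fld (Fin n) k)).comp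
    { toFun := fun e => MvPolynomial.renameEquiv k e
      map_one' := MvPolynomial.renameEquiv_refl k
      map_mul' := fun e f => (MvPolynomial.renameEquiv_trans k f e).symm }

theorem permHom_algebraMap (e : Equiv.Perm (Fin n)) (p : MvPolynomial (Fin n) k) :
    permHom k n e (algebraMap _ _ p) = algebraMap _ (InvFld.Fld (Fin n) k) (rename e p) :=
  IsFractionRing.fieldEquivOfAlgEquiv_algebraMap k (InvFld.Fld (Fin n) k) (InvFld.Fld (Fin n) k)
    (MvPolynomial.renameEquiv k e) p

theorem permHom_injective : Function.Injective (permHom k n) := by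
  intro e f h
  ext i
  have h1 := DFunLike.congr_fun h (algebraMap (MvPolynomial (Fin n) k) (InvFld.Fld (Fin n) k) (X i))
  rw [permHom_algebraMap, permHom_algebraMap, rename_X, rename_X] at h1
  have h2 : (X (e i) : MvPolynomial (Fin n) k) = X (f i) :=
    IsFractionRing.injective (MvPolynomial (Fin n) k) (InvFld.Fld (Fin n) k) h1
  rw [MvPolynomial.X_injective h2]

theorem permHom_linear (τ : InvFld.Fld (Fin n) k ≃ₐ[k] InvFld.Fld (Fin n) k)
    (hτ : τ ∈ (permHom k n).range) (i : Fin n) :
    τ (InvFld.X i) ∈ Submodule.span k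
      (Set.range fun j : Fin n => (InvFld.X j : InvFld.Fld (Fin n) k)) := by
  obtain ⟨e, rfl⟩ := hτ
  rw [InvFld.X, permHom_algebraMap, rename_X]
  exact Submodule.subset_span ⟨e i, rfl⟩

/-- Symmetric rational functions form a pure extension. -/
theorem fixedField_perm :
    ∃ a : Fin n → IntermediateField.fixedField (permHom k n).range,
      AlgebraicIndependent k a ∧ IntermediateField.adjoin k (Set.range a) = ⊤ := by
  classical
  set F := IntermediateField.fixedField (permHom k n).range
  let L := InvFld.Fld (Fin n) k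
  let b : Fin n → L := fun i => algebraMap _ L (esymm (Fin n) k (i + 1))
  have hb : ∀ i, b i ∈ F := fun i => by
    intro τ
    obtain ⟨τ, e, rfl⟩ := τ
    exact (permHom_algebraMap k n e _).trans (congrArg _ (esymm_isSymmetric _ _ _ e))
  have hbe : ∀ q : MvPolynomial (Fin n) k,
      aeval b q = algebraMap _ L ((esymmAlgHom (Fin n) k n q).val) := fun q => by
    rw [esymmAlgHom_apply]
    exact aeval_algebraMap_apply L _ q
  have hbind : AlgebraicIndependent k b := by
    intro p q hpq
    refine esymmAlgHom_injective k (Fintype.card_fin n).ge (Subtype.ext ?_)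
    exact IsFractionRing.injective (MvPolynomial (Fin n) k) L
      ((hbe p).symm.trans (hpq.trans (hbe q)))
  have hsym : ∀ p : MvPolynomial (Fin n) k, algebraMap _ L p ∈ F →
      ∃ q, aeval b q = algebraMap _ L p := fun p hp => by
    have h : p.IsSymmetric := fun e => IsFractionRing.injective (MvPolynomial (Fin n) k) L
      ((permHom_algebraMap k n e p).symm.trans (hp ⟨_, e, rfl⟩))
    obtain ⟨q, hq⟩ := esymmAlgHom_surjective k (σ := Fin n) (Fintype.card_fin n).le ⟨p, h⟩
    exact ⟨q, by rw [hbe, hq]⟩
  have hF : ∀ z ∈ F, z ∈ IntermediateField.adjoin k (Set.range b) := by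
    intro z hz
    obtain ⟨p, q, hq0, rfl⟩ := IsFractionRing.div_surjective (MvPolynomial (Fin n) k) z
    have hq : q ≠ 0 := nonZeroDivisors.ne_zero hq0
    let Q := ∏ e : Equiv.Perm (Fin n), rename e q
    let P := p * ∏ e ∈ Finset.univ.erase (1 : Equiv.Perm (Fin n)), rename e q
    have hQ0 : Q ≠ 0 :=
      Finset.prod_ne_zero_iff.2 fun e _ => by
        rwa [map_ne_zero_iff _ (rename_injective _ e.injective)]
    have hQF : algebraMap _ L Q ∈ F := by
      intro τ
      obtain ⟨τ, f, rfl⟩ := τ
      refine (permHom_algebraMap k n f _).trans (congrArg _ ?_)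
      rw [map_prod]
      exact Fintype.prod_equiv (Equiv.mulLeft f) (fun e : Equiv.Perm (Fin n) => rename f (rename e q))
        (fun e : Equiv.Perm (Fin n) => rename e q) fun e => rename_rename _ _ q
    have hqL : algebraMap _ L q ≠ 0 := (map_ne_zero_iff _ (IsFractionRing.injective _ L)).2 hq
    have hQL : algebraMap _ L Q ≠ 0 := (map_ne_zero_iff _ (IsFractionRing.injective _ L)).2 hQ0
    have hQ : Q = q * ∏ e ∈ Finset.univ.erase (1 : Equiv.Perm (Fin n)), rename e q := by
      refine (Finset.mul_prod_erase Finset.univ (fun e : Equiv.Perm (Fin n) => rename e q)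
        (Finset.mem_univ 1)).symm.trans ?_
      rw [Equiv.Perm.coe_one, rename_id_apply]
    have hP : algebraMap _ L P = algebraMap _ L p / algebraMap _ L q * algebraMap _ L Q := by
      rw [hQ, map_mul, map_mul, ← mul_assoc, div_mul_cancel₀ _ hqL]
    obtain ⟨q', hq'⟩ := hsym Q hQF
    obtain ⟨p', hp'⟩ := hsym P (by rw [hP]; exact mul_mem hz hQF)
    refine (IntermediateField.mem_adjoin_range_iff k b _).2 ⟨p', q', ?_⟩
    rw [hp', hq', hP, mul_div_cancel_right₀ _ hQL]
  refine ⟨fun i => ⟨b i, hb i⟩, AlgebraicIndependent.of_comp F.val hbind, ?_⟩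
  apply IntermediateField.map_injective F.val
  rw [IntermediateField.adjoin_map, ← Set.range_comp, ← AlgHom.fieldRange_eq_map,
    IntermediateField.fieldRange_val]
  apply le_antisymm
  · rw [IntermediateField.adjoin_le_iff]
    rintro _ ⟨i, rfl⟩
    exact hb i
  · exact hF

/-- A rational function field over a purely transcendental field is purely transcendental. -/
theorem fld_pure {m n : ℕ} {F : Type u} [Field F] [Algebra k F] (a : Fin n → F)
    (ha : AlgebraicIndependent k a) (htop : IntermediateField.adjoin k (Set.range a) = ⊤) :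
    ∃ t : Fin (m + n) → InvFld.Fld (Fin m) F,
      AlgebraicIndependent k t ∧ IntermediateField.adjoin k (Set.range t) = ⊤ := by
  let L := InvFld.Fld (Fin m) F
  let T : Fin m ⊕ Fin n → L := Sum.elim (fun i => InvFld.X i) (algebraMap F L ∘ a)
  refine ⟨T ∘ finSumFinEquiv.symm, ?_, ?_⟩
  · exact (AlgebraicIndependent.sumElim_comp ha (algebraicIndependent_X (Fin m) F)).comp _
      finSumFinEquiv.symm.injective
  · rw [finSumFinEquiv.symm.surjective.range_comp, eq_top_iff]
    intro z _
    set M := IntermediateField.adjoin k (Set.range T) with hM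
    have hF : ∀ c : F, algebraMap F L c ∈ M := by
      intro c
      have hle : (IntermediateField.adjoin k (Set.range a)).map (IsScalarTower.toAlgHom k F L) ≤ M := by
        rw [IntermediateField.adjoin_map, IntermediateField.adjoin_le_iff]
        rintro _ ⟨_, ⟨i, rfl⟩, rfl⟩
        exact IntermediateField.subset_adjoin k _ ⟨Sum.inr i, rfl⟩
      exact hle ⟨c, htop ▸ trivial, rfl⟩
    have hz : z ∈ IntermediateField.adjoin F (Set.range fun i : Fin m => (InvFld.X i : L)) := by
      rw [adjoin_X_eq_top]; trivial
    induction hz using IntermediateField.adjoin_induction with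
    | mem x hx =>
      obtain ⟨i, rfl⟩ := hx
      exact IntermediateField.subset_adjoin k _ ⟨Sum.inl i, rfl⟩
    | algebraMap c => exact hF c
    | add x y _ _ hx hy => exact add_mem (hx trivial) (hy trivial)
    | inv x _ hx => exact inv_mem (hx trivial)
    | mul x y _ _ hx hy => exact mul_mem (hx trivial) (hy trivial)

end Groth.Agent.L13.InvFld
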