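import Groth.Agent.L13.InvFld.FldAlg

/-! Stable equivalence of linear invariant fields. -/

set_option autoImplicit false
universe u

open MvPolynomial

namespace Groth.Agent.L13.InvFld

variable {k : Type u} [Field k]

/-- The map of rational function fields induced by an injection of variables. -/
noncomputable def embed {α γ : Type} (a : α → γ) (ha : Function.Injective a) :
    InvFld.Fld α k →ₐ[k] InvFld.Fld γ k :=
  IsFractionRing.liftAlgHom (K := InvFld.Fld α k)
    (g := (IsScalarTower.toAlgHom k (MvPolynomial γ k) (InvFld.Fld γ k)).comp (rename a))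
    ((IsFractionRing.injective (MvPolynomial γ k) (InvFld.Fld γ k)).comp (rename_injective a ha))

theorem embed_algebraMap {α γ : Type} (a : α → γ) (ha : Function.Injective a)
    (p : MvPolynomial α k) : embed a ha (algebraMap _ (InvFld.Fld α k) p) =
      algebraMap _ (InvFld.Fld γ k) (rename a p) := by
  exact IsFractionRing.lift_algebraMap (K := InvFld.Fld α k) (g := ((IsScalarTower.toAlgHom k (MvPolynomial γ k) (InvFld.Fld γ k)).comp (rename a)).toRingHom) ((IsFractionRing.injective (MvPolynomial γ k) (InvFld.Fld γ k)).comp (rename_injective a ha)) p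

theorem embed_X {α γ : Type} (a : α → γ) (ha : Function.Injective a) (i : α) :
    embed a ha (InvFld.X i : InvFld.Fld α k) = InvFld.X (a i) := by
  rw [InvFld.X, embed_algebraMap, rename_X]

/-- Algebra maps out of a rational function field agreeing on variables agree. -/
theorem algHom_ext {α : Type} {B : Type u} [Field B] [Algebra k B]
    {f g : InvFld.Fld α k →ₐ[k] B} (h : ∀ i, f (InvFld.X i) = g (InvFld.X i)) : f = g := by
  refine IsLocalization.algHom_ext (nonZeroDivisors (MvPolynomial α k)) ?_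
  exact MvPolynomial.algHom_ext h

theorem fieldRange_embed {α γ : Type} (a : α → γ) (ha : Function.Injective a) :
    (embed (k := k) a ha).fieldRange =
      IntermediateField.adjoin k (Set.range fun j : α => (InvFld.X (a j) : InvFld.Fld γ k)) := by
  rw [AlgHom.fieldRange_eq_map, ← adjoin_X_eq_top, IntermediateField.adjoin_map, ← Set.range_comp]
  congr 1
  exact congrArg Set.range (funext fun i => embed_X a ha i)

/-- One half: a linear action on `Fld γ` extending an action on `Fld α`. -/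
theorem half {α γ : Type} {m : ℕ} (a : α → γ) (b : Fin m → γ)
    (hab : Function.Bijective (Sum.elim a b))
    (G : Subgroup (InvFld.Fld α k ≃ₐ[k] InvFld.Fld α k)) [Finite G]
    (ρ : G →* (InvFld.Fld γ k ≃ₐ[k] InvFld.Fld γ k))
    (hcomm : ∀ (σ : G) (z : InvFld.Fld α k),
      ρ σ (embed a (hab.1.comp Sum.inl_injective) z) =
        embed a (hab.1.comp Sum.inl_injective) ((σ : InvFld.Fld α k ≃ₐ[k] InvFld.Fld α k) z))
    (hlin : ∀ (σ : G) (j : Fin m), ρ σ (InvFld.X (b j)) ∈ Submodule.span k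
      (Set.range fun j : Fin m => (InvFld.X (b j) : InvFld.Fld γ k))) :
    Nonempty (InvFld.Fld (Fin m) (IntermediateField.fixedField G) ≃ₐ[k]
      IntermediateField.fixedField ρ.range) := by
  have : Finite ρ.range := Finite.of_surjective ρ.rangeRestrict ρ.rangeRestrict_surjective
  have ha : Function.Injective a := hab.1.comp Sum.inl_injective
  let ι : InvFld.Fld α k →ₐ[k] InvFld.Fld γ k := embed a ha
  have hcomm' : ∀ (σ : G) (z : InvFld.Fld α k),
      ρ σ (ι z) = ι ((σ : InvFld.Fld α k ≃ₐ[k] InvFld.Fld α k) z) := hcomm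
  have hE : ∀ τ ∈ ρ.range, ∀ z ∈ ι.fieldRange, τ z ∈ ι.fieldRange := by
    rintro _ ⟨σ, rfl⟩ _ ⟨z, rfl⟩
    exact ⟨_, (hcomm' σ z).symm⟩
  have hf : ∀ τ ∈ ρ.range, (∀ z ∈ ι.fieldRange, τ z = z) → τ = 1 := by
    rintro _ ⟨σ, rfl⟩ h
    have : σ = 1 := Subtype.ext (AlgEquiv.ext fun z =>
      ι.toRingHom.injective ((hcomm' σ z).symm.trans (h _ ⟨z, rfl⟩)))
    rw [this, map_one]
  have hind : AlgebraicIndependent ι.fieldRange
      (fun j : Fin m => (InvFld.X (b j) : InvFld.Fld γ k)) := by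
    rw [fieldRange_embed, IntermediateField.algebraicIndependent_adjoin_iff]
    refine (AlgebraicIndependent.sumElim_iff.1 ?_).2
    have : Sum.elim (fun j : Fin m => (InvFld.X (b j) : InvFld.Fld γ k))
        (fun j : α => (InvFld.X (a j) : InvFld.Fld γ k))
        = (fun i : γ => (InvFld.X i : InvFld.Fld γ k)) ∘ (Sum.elim a b ∘ Sum.swap) := by
      funext i; cases i <;> rfl
    rw [this]
    exact (algebraicIndependent_X γ k).comp _
      (hab.1.comp (Function.LeftInverse.injective Sum.swap_leftInverse))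
  have hgen : IntermediateField.adjoin ι.fieldRange
      (Set.range fun j : Fin m => (InvFld.X (b j) : InvFld.Fld γ k)) = ⊤ := by
    rw [← IntermediateField.restrictScalars_eq_top_iff (K := k), eq_top_iff, ← adjoin_X_eq_top,
      IntermediateField.adjoin_le_iff]
    rintro _ ⟨i, rfl⟩
    obtain ⟨i | i, rfl⟩ := hab.2 i
    · exact IntermediateField.algebraMap_mem _
        (⟨_, ⟨InvFld.X i, embed_X a ha i⟩⟩ : ι.fieldRange)
    · exact IntermediateField.subset_adjoin ι.fieldRange _ ⟨i, rfl⟩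
  obtain ⟨t, ht, hF⟩ := exists_fixedField_eq_adjoin ρ.range ι.fieldRange hE hf
    (fun j : Fin m => (InvFld.X (b j) : InvFld.Fld γ k)) hind hgen
    (by rintro _ ⟨σ, rfl⟩ j; exact Submodule.span_le_restrictScalars k _ _ (hlin σ j))
  have hmap : (IntermediateField.fixedField G).map ι =
      ι.fieldRange ⊓ IntermediateField.fixedField ρ.range := by
    apply le_antisymm
    · rintro _ ⟨z, hz, rfl⟩
      refine ⟨⟨z, rfl⟩, fun τ => ?_⟩
      obtain ⟨τ, σ, rfl⟩ := τ
      exact (hcomm' σ z).trans (congrArg ι (hz σ))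
    · rintro _ ⟨⟨z, rfl⟩, hz⟩
      exact ⟨z, fun σ => ι.toRingHom.injective ((hcomm' σ z).symm.trans (hz ⟨ρ σ, σ, rfl⟩)), rfl⟩
  let e : IntermediateField.fixedField G ≃ₐ[k]
      ↥(ι.fieldRange ⊓ IntermediateField.fixedField ρ.range) :=
    (IntermediateField.equivMap _ ι).trans (IntermediateField.equivOfEq hmap)
  let e1 : InvFld.Fld (Fin m) (IntermediateField.fixedField G) ≃ₐ[k]
      InvFld.Fld (Fin m) ↥(ι.fieldRange ⊓ IntermediateField.fixedField ρ.range) :=
    IsFractionRing.fieldEquivOfAlgEquiv k _ _ (MvPolynomial.mapAlgEquiv (Fin m) e)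
  let e2 := ht.aevalEquivField.restrictScalars k
  exact ⟨e1.trans (e2.trans (IntermediateField.equivOfEq hF))⟩

/-- Linear automorphisms preserve polynomials. -/
theorem exists_poly {α : Type} (σ : InvFld.Fld α k ≃ₐ[k] InvFld.Fld α k)
    (hσ : ∀ i, σ (InvFld.X i) ∈ Submodule.span k
      (Set.range fun j : α => (InvFld.X j : InvFld.Fld α k))) (i : α) :
    ∃ p : MvPolynomial α k, algebraMap _ (InvFld.Fld α k) p = σ (InvFld.X i) := by
  have h : Submodule.span k (Set.range fun j : α => (InvFld.X j : InvFld.Fld α k)) ≤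
      LinearMap.range (IsScalarTower.toAlgHom k (MvPolynomial α k) (InvFld.Fld α k)).toLinearMap := by
    rw [Submodule.span_le]
    rintro _ ⟨j, rfl⟩
    exact ⟨MvPolynomial.X j, rfl⟩
  exact h (hσ i)

/-- Fields of invariants of two faithful linear actions of one finite group are stably equivalent. -/
theorem stable_equiv {n m : ℕ}
    (G : Subgroup (InvFld.Fld (Fin n) k ≃ₐ[k] InvFld.Fld (Fin n) k)) [Finite G]
    (H : Subgroup (InvFld.Fld (Fin m) k ≃ₐ[k] InvFld.Fld (Fin m) k)) [Finite H] (e : G ≃* H)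
    (hG : ∀ σ ∈ G, ∀ i : Fin n, σ (InvFld.X i) ∈ Submodule.span k (Set.range fun j : Fin n => (InvFld.X j : InvFld.Fld (Fin n) k)))
    (hH : ∀ τ ∈ H, ∀ i : Fin m, τ (InvFld.X i) ∈ Submodule.span k (Set.range fun j : Fin m => (InvFld.X j : InvFld.Fld (Fin m) k))) :
    Nonempty (InvFld.Fld (Fin m) (IntermediateField.fixedField G) ≃ₐ[k]
      InvFld.Fld (Fin n) (IntermediateField.fixedField H)) := by
  classical
  let γ := Fin n ⊕ Fin m
  let il : Fin n → γ := Sum.inl
  let ir : Fin m → γ := Sum.inr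
  let ιl : InvFld.Fld (Fin n) k →ₐ[k] InvFld.Fld γ k := embed il Sum.inl_injective
  let ιr : InvFld.Fld (Fin m) k →ₐ[k] InvFld.Fld γ k := embed ir Sum.inr_injective
  choose P hP using fun (σ : G) (i : Fin n) => exists_poly _ (hG σ σ.2) i
  choose Q hQ using fun (τ : H) (i : Fin m) => exists_poly _ (hH τ τ.2) i
  let Φ : G → (MvPolynomial γ k →ₐ[k] MvPolynomial γ k) := fun σ =>
    aeval (Sum.elim (fun i => rename il (P σ i)) (fun j => rename ir (Q (e σ) j)))
  let j : MvPolynomial γ k →ₐ[k] InvFld.Fld γ k := IsScalarTower.toAlgHom k _ _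
  have hjl : ∀ (σ : G) (p : MvPolynomial (Fin n) k),
      j (Φ σ (rename il p)) = ιl ((σ : InvFld.Fld (Fin n) k ≃ₐ[k] InvFld.Fld (Fin n) k)
        (algebraMap _ _ p)) := by
    intro σ p
    refine DFunLike.congr_fun (MvPolynomial.algHom_ext (f := (j.comp (Φ σ)).comp (rename il))
      (g := (ιl.comp (σ : InvFld.Fld (Fin n) k ≃ₐ[k] InvFld.Fld (Fin n) k).toAlgHom).comp
        (IsScalarTower.toAlgHom k (MvPolynomial (Fin n) k) (InvFld.Fld (Fin n) k))) fun i => ?_) p
    simp only [AlgHom.comp_apply, rename_X, Φ, aeval_X, il, Sum.elim_inl]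
    change algebraMap _ _ (rename il (P σ i)) = ιl ((σ : InvFld.Fld (Fin n) k ≃ₐ[k] InvFld.Fld (Fin n) k)
      (InvFld.X i))
    rw [← hP, embed_algebraMap]
  have hjr : ∀ (σ : G) (p : MvPolynomial (Fin m) k),
      j (Φ σ (rename ir p)) = ιr ((e σ : InvFld.Fld (Fin m) k ≃ₐ[k] InvFld.Fld (Fin m) k)
        (algebraMap _ _ p)) := by
    intro σ p
    refine DFunLike.congr_fun (MvPolynomial.algHom_ext (f := (j.comp (Φ σ)).comp (rename ir))
      (g := (ιr.comp (e σ : InvFld.Fld (Fin m) k ≃ₐ[k] InvFld.Fld (Fin m) k).toAlgHom).comp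
        (IsScalarTower.toAlgHom k (MvPolynomial (Fin m) k) (InvFld.Fld (Fin m) k))) fun i => ?_) p
    simp only [AlgHom.comp_apply, rename_X, Φ, aeval_X, ir, Sum.elim_inr]
    change algebraMap _ _ (rename ir (Q (e σ) i)) = ιr
      ((e σ : InvFld.Fld (Fin m) k ≃ₐ[k] InvFld.Fld (Fin m) k) (InvFld.X i))
    rw [← hQ, embed_algebraMap]
  have hjinj : Function.Injective j := IsFractionRing.injective _ _
  have hjX : ∀ σ : G, (∀ i, j (Φ σ (X (il i))) = ιl ((σ : InvFld.Fld (Fin n) k ≃ₐ[k] InvFld.Fld (Fin n) k)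
      (InvFld.X i))) ∧ ∀ i, j (Φ σ (X (ir i))) = ιr
        ((e σ : InvFld.Fld (Fin m) k ≃ₐ[k] InvFld.Fld (Fin m) k) (InvFld.X i)) := fun σ =>
    ⟨fun i => by rw [← rename_X, hjl], fun i => by rw [← rename_X, hjr]⟩
  have hone : Φ 1 = AlgHom.id k _ := by
    refine MvPolynomial.algHom_ext fun i => hjinj ?_
    rcases i with i | i
    · exact ((hjX 1).1 i).trans (embed_X _ _ i)
    · refine ((hjX 1).2 i).trans ?_
      rw [map_one]
      exact embed_X _ _ i
  have hmul : ∀ σ τ, Φ (σ * τ) = (Φ σ).comp (Φ τ) := by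
    intro σ τ
    refine MvPolynomial.algHom_ext fun i => hjinj ?_
    rcases i with i | i
    · rw [(hjX (σ * τ)).1 i, AlgHom.comp_apply]
      have : Φ τ (X (il i)) = rename il (P τ i) := by simp [Φ, il]
      rw [this, hjl, hP]
      rfl
    · rw [(hjX (σ * τ)).2 i, AlgHom.comp_apply]
      have : Φ τ (X (ir i)) = rename ir (Q (e τ) i) := by simp [Φ, ir]
      rw [this, hjr, hQ, map_mul]
      rfl
  let Ψ : G →* (MvPolynomial γ k ≃ₐ[k] MvPolynomial γ k) :=
    { toFun := fun σ => AlgEquiv.ofAlgHom (Φ σ) (Φ σ⁻¹)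
        (by rw [← hmul, mul_inv_cancel, hone]) (by rw [← hmul, inv_mul_cancel, hone])
      map_one' := AlgEquiv.ext fun x => DFunLike.congr_fun hone x
      map_mul' := fun σ τ => AlgEquiv.ext fun x => DFunLike.congr_fun (hmul σ τ) x }
  let ρ : G →* (InvFld.Fld γ k ≃ₐ[k] InvFld.Fld γ k) :=
    (IsFractionRing.fieldEquivOfAlgEquivHom k (InvFld.Fld γ k)).comp Ψ
  have hρ : ∀ σ p, ρ σ (algebraMap _ _ p) = j (Φ σ p) := fun σ p =>
    IsFractionRing.fieldEquivOfAlgEquiv_algebraMap k (InvFld.Fld γ k) (InvFld.Fld γ k) (Ψ σ) p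
  have hcl : ∀ (σ : G) z, ρ σ (ιl z) = ιl ((σ : InvFld.Fld (Fin n) k ≃ₐ[k] InvFld.Fld (Fin n) k) z) := by
    intro σ z
    refine DFunLike.congr_fun (algHom_ext (f := (ρ σ).toAlgHom.comp ιl)
      (g := ιl.comp (σ : InvFld.Fld (Fin n) k ≃ₐ[k] InvFld.Fld (Fin n) k).toAlgHom) fun i => ?_) z
    change ρ σ (ιl (InvFld.X i)) = _
    rw [embed_X, InvFld.X, hρ, (hjX σ).1]
    rfl
  have hcr : ∀ (σ : G) z, ρ σ (ιr z) = ιr ((e σ : InvFld.Fld (Fin m) k ≃ₐ[k] InvFld.Fld (Fin m) k) z) := by
    intro σ z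
    refine DFunLike.congr_fun (algHom_ext (f := (ρ σ).toAlgHom.comp ιr)
      (g := ιr.comp (e σ : InvFld.Fld (Fin m) k ≃ₐ[k] InvFld.Fld (Fin m) k).toAlgHom) fun i => ?_) z
    change ρ σ (ιr (InvFld.X i)) = _
    rw [embed_X, InvFld.X, hρ, (hjX σ).2]
    rfl
  have hspan : ∀ {q : ℕ} (a : Fin q → γ) (ha : Function.Injective a) (z : InvFld.Fld (Fin q) k),
      z ∈ Submodule.span k (Set.range fun j : Fin q => (InvFld.X j : InvFld.Fld (Fin q) k)) →
      embed a ha z ∈ Submodule.span k
        (Set.range fun j : Fin q => (InvFld.X (a j) : InvFld.Fld γ k)) := by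
    intro q a ha z hz
    have := Submodule.mem_map_of_mem (f := (embed (k := k) a ha).toLinearMap) hz
    rw [Submodule.map_span, ← Set.range_comp] at this
    have e : ((embed (k := k) a ha).toLinearMap ∘ fun j : Fin q => (InvFld.X j : InvFld.Fld (Fin q) k))
        = fun j => InvFld.X (a j) := funext fun j => embed_X a ha j
    rwa [e] at this
  have hlr : ∀ (σ : G) (i : Fin m), ρ σ (InvFld.X (ir i)) ∈ Submodule.span k
      (Set.range fun j : Fin m => (InvFld.X (ir j) : InvFld.Fld γ k)) := fun σ i => by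
    rw [← embed_X ir Sum.inr_injective i, hcr]
    exact hspan ir Sum.inr_injective _ (hH _ (e σ).2 i)
  have hll : ∀ (σ : G) (i : Fin n), ρ σ (InvFld.X (il i)) ∈ Submodule.span k
      (Set.range fun j : Fin n => (InvFld.X (il j) : InvFld.Fld γ k)) := fun σ i => by
    rw [← embed_X il Sum.inl_injective i, hcl]
    exact hspan il Sum.inl_injective _ (hG _ σ.2 i)
  have hb1 : Function.Bijective (Sum.elim il ir) := by
    rw [Sum.elim_inl_inr]; exact Function.bijective_id
  have hb2 : Function.Bijective (Sum.elim ir il) := by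
    have : Sum.elim ir il = Sum.swap := by funext i; cases i <;> rfl
    rw [this]; exact (Equiv.sumComm _ _).bijective
  obtain ⟨e1⟩ := half il ir hb1 G ρ hcl hlr
  obtain ⟨e2⟩ := half ir il hb2 H (ρ.comp e.symm.toMonoidHom)
    (fun τ z => (hcr (e.symm τ) z).trans (by rw [e.apply_symm_apply])) (fun τ i => hll _ i)
  have hr : (ρ.comp e.symm.toMonoidHom).range = ρ.range :=
    by rw [MonoidHom.range_comp, MonoidHom.range_eq_top.2 e.symm.surjective, ← MonoidHom.range_eq_map]
  exact ⟨e1.trans ((IntermediateField.equivOfEq (congrArg IntermediateField.fixedField hr.symm)).trans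
    e2.symm)⟩

end Groth.Agent.L13.InvFld
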